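import Mathlib
import Groth.Agent.Lib.Helper24.Gen2516.Main2516
import Groth.Agent.Lib.Helper13.FlatDimOne

/-!
# S11321: flat limits over a curve (general total space, any open containing the generic point)
-/

set_option autoImplicit false
universe u

open AlgebraicGeometry CategoryTheory Limits TensorProduct TopologicalSpace

namespace Groth.Agent.Lib.Helper24.Gen2516

theorem isPullback_of_comp_mono {C : Type*} [Category C] {A B V K D : C} (k : A ⟶ V) (m : V ⟶ B)
    [Mono m] (t : A ⟶ K) (p : B ⟶ D) (g : K ⟶ D) (h : IsPullback (k ≫ m) t p g) :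
    IsPullback k t (m ≫ p) g := by
  refine ⟨⟨by rw [← Category.assoc]; exact h.w⟩, ⟨PullbackCone.IsLimit.mk _
    (fun s => h.lift (s.fst ≫ m) s.snd (by rw [Category.assoc]; exact s.condition)) ?_ ?_ ?_⟩⟩
  · intro s
    rw [← cancel_mono m, Category.assoc]
    exact h.lift_fst _ _ _
  · intro s
    exact h.lift_snd _ _ _
  · intro s l h1 h2
    apply h.hom_ext
    · rw [h.lift_fst, ← Category.assoc, h1]
    · rw [h.lift_snd, h2]

theorem main_general {P Y : Scheme.{u}} [IsIntegral Y]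
    (hY : ∀ y : Y, IsRegularLocalRing (Y.presheaf.stalk y) ∧ ringKrullDim (Y.presheaf.stalk y) ≤ 1)
    (π : P ⟶ Y) (U : Y.Opens) (hηU : genericPoint Y ∈ U)
    {X : Scheme.{u}} (i : X ⟶ (π ⁻¹ᵁ U).toScheme) [IsClosedImmersion i]
    [hfl : Flat (i ≫ (π ⁻¹ᵁ U).ι ≫ π)] :
    ∃ (X' : Scheme.{u}) (i' : X' ⟶ P) (j : X ⟶ X'), IsClosedImmersion i' ∧ Flat (i' ≫ π) ∧
      IsPullback j i i' (π ⁻¹ᵁ U).ι ∧
      ∀ (X'' : Scheme.{u}) (i'' : X'' ⟶ P) (j'' : X ⟶ X''), IsClosedImmersion i'' →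
        Flat (i'' ≫ π) → IsPullback j'' i i'' (π ⁻¹ᵁ U).ι → ∃ e : X' ≅ X'', e.hom ≫ i'' = i' := by
  haveI : QuasiCompact (π.fiberι (genericPoint Y)) :=
    inferInstanceAs (QuasiCompact (pullback.fst π (Y.fromSpecResidueField (genericPoint Y))))
  -- the generic fibre lands in `V`
  have hrange : Set.range (π.fiberι (genericPoint Y)) ⊆ Set.range (π ⁻¹ᵁ U).ι := by
    rintro _ ⟨p, rfl⟩
    rw [Scheme.Opens.range_ι]
    show π (π.fiberι (genericPoint Y) p) ∈ U
    have := fiberι_apply_eq π (genericPoint Y) p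
    rw [Scheme.Hom.comp_apply] at this
    rw [this]
    exact hηU
  let k : π.fiber (genericPoint Y) ⟶ (π ⁻¹ᵁ U).toScheme :=
    IsOpenImmersion.lift (π ⁻¹ᵁ U).ι (π.fiberι (genericPoint Y)) hrange
  have hk : k ≫ (π ⁻¹ᵁ U).ι = π.fiberι (genericPoint Y) := IsOpenImmersion.lift_fac _ _ _
  have hE : IsPullback k (π.fiberToSpecResidueField (genericPoint Y)) ((π ⁻¹ᵁ U).ι ≫ π)
      (Y.fromSpecResidueField (genericPoint Y)) := by
    apply isPullback_of_comp_mono
    rw [hk]
    exact IsPullback.of_hasPullback π (Y.fromSpecResidueField (genericPoint Y))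
  haveI : QuasiCompact k := MorphismProperty.of_isPullback (P := @QuasiCompact) hE.flip inferInstance
  -- the generic fibre of `X`
  let z' : pullback i k ⟶ π.fiber (genericPoint Y) := pullback.snd i k
  have sqX : IsPullback (pullback.fst i k) z' i k := IsPullback.of_hasPullback i k
  haveI : QuasiCompact (z' ≫ π.fiberι (genericPoint Y)) := inferInstance
  haveI : QuasiCompact (z' ≫ k) := inferInstance
  -- the closure
  have sq' := isPullback_toImage π z'
  have hflat' : Flat ((z' ≫ π.fiberι (genericPoint Y)).imageι ≫ π) := by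
    apply flat_image_generic hY π (z' ≫ π.fiberι (genericPoint Y))
    intro t
    rw [Category.assoc]
    exact fiberι_apply_eq π (genericPoint Y) (z' t)
  -- restriction of the closure to `V`
  have sqV : IsPullback (pullback.fst (z' ≫ π.fiberι (genericPoint Y)).imageι (π ⁻¹ᵁ U).ι)
      (pullback.snd (z' ≫ π.fiberι (genericPoint Y)).imageι (π ⁻¹ᵁ U).ι)
      (z' ≫ π.fiberι (genericPoint Y)).imageι (π ⁻¹ᵁ U).ι := IsPullback.of_hasPullback _ _
  have hwcomm : (z' ≫ π.fiberι (genericPoint Y)).toImage ≫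
      (z' ≫ π.fiberι (genericPoint Y)).imageι = (z' ≫ k) ≫ (π ⁻¹ᵁ U).ι := by
    rw [Scheme.Hom.toImage_imageι, Category.assoc, hk]
  let w : pullback i k ⟶ pullback (z' ≫ π.fiberι (genericPoint Y)).imageι (π ⁻¹ᵁ U).ι :=
    pullback.lift (z' ≫ π.fiberι (genericPoint Y)).toImage (z' ≫ k) hwcomm
  have hw1 : w ≫ pullback.fst _ _ = (z' ≫ π.fiberι (genericPoint Y)).toImage :=
    pullback.lift_fst _ _ _
  have hw2 : w ≫ pullback.snd _ _ = z' ≫ k := pullback.lift_snd _ _ _
  have sqL : IsPullback w z' (pullback.snd (z' ≫ π.fiberι (genericPoint Y)).imageι (π ⁻¹ᵁ U).ι)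
      k := by
    refine IsPullback.of_right ?_ hw2 sqV
    rw [hw1, hk]
    exact sq'
  -- kernels
  have ea : i.ker = (z' ≫ k).ker :=
    ker_eq_of_flat_of_isPullback' ((π ⁻¹ᵁ U).ι ≫ π) k _ hE z' i (pullback.fst i k) hfl sqX
  have hflV : Flat (pullback.snd (z' ≫ π.fiberι (genericPoint Y)).imageι (π ⁻¹ᵁ U).ι ≫
      (π ⁻¹ᵁ U).ι ≫ π) := by
    rw [← Category.assoc, ← pullback.condition, Category.assoc]
    infer_instance
  have eb : (pullback.snd (z' ≫ π.fiberι (genericPoint Y)).imageι (π ⁻¹ᵁ U).ι).ker =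
      (z' ≫ k).ker :=
    ker_eq_of_flat_of_isPullback' ((π ⁻¹ᵁ U).ι ≫ π) k _ hE z' _ w hflV sqL
  have eab : (pullback.snd (z' ≫ π.fiberι (genericPoint Y)).imageι (π ⁻¹ᵁ U).ι).ker = i.ker :=
    eb.trans ea.symm
  haveI := IsClosedImmersion.isIso_lift
    (pullback.snd (z' ≫ π.fiberι (genericPoint Y)).imageι (π ⁻¹ᵁ U).ι) i eab
  have hlift : IsClosedImmersion.lift
      (pullback.snd (z' ≫ π.fiberι (genericPoint Y)).imageι (π ⁻¹ᵁ U).ι) i eab.le ≫
      pullback.snd (z' ≫ π.fiberι (genericPoint Y)).imageι (π ⁻¹ᵁ U).ι = i :=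
    IsClosedImmersion.lift_fac _ _ _
  refine ⟨_, (z' ≫ π.fiberι (genericPoint Y)).imageι,
    IsClosedImmersion.lift
      (pullback.snd (z' ≫ π.fiberι (genericPoint Y)).imageι (π ⁻¹ᵁ U).ι) i eab.le ≫
      pullback.fst _ _, inferInstance, hflat', ?_, ?_⟩
  · have h1 : IsPullback (IsClosedImmersion.lift
        (pullback.snd (z' ≫ π.fiberι (genericPoint Y)).imageι (π ⁻¹ᵁ U).ι) i eab.le) i
        (pullback.snd (z' ≫ π.fiberι (genericPoint Y)).imageι (π ⁻¹ᵁ U).ι)
        (𝟙 (π ⁻¹ᵁ U).toScheme) :=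
      IsPullback.of_horiz_isIso ⟨by rw [hlift, Category.comp_id]⟩
    have h2 := h1.paste_horiz sqV
    rwa [Category.id_comp] at h2
  · intro X'' i'' j'' hci hfl'' sq''
    have h3 := sqX.paste_horiz sq''
    rw [hk] at h3
    have e1 : i''.ker = (z' ≫ π.fiberι (genericPoint Y)).ker :=
      ker_eq_of_flat_of_isPullback π z' i'' (pullback.fst i k ≫ j'') hfl'' h3
    have e2 : i''.ker = (z' ≫ π.fiberι (genericPoint Y)).imageι.ker := by
      rw [e1, Scheme.IdealSheafData.ker_subschemeι]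
    haveI := IsClosedImmersion.isIso_lift i'' (z' ≫ π.fiberι (genericPoint Y)).imageι e2
    exact ⟨asIso (IsClosedImmersion.lift i'' (z' ≫ π.fiberι (genericPoint Y)).imageι e2.le),
      IsClosedImmersion.lift_fac _ _ _⟩

end Groth.Agent.Lib.Helper24.Gen2516

namespace Groth.Agent.Lib.Helper24.Gen2516

theorem genericPoint_mem_of_compl_singleton {Y : Scheme.{u}} [IsIntegral Y]
    (hY : topologicalKrullDim ↥Y = 1) (P : Y) (U : Y.Opens) (hU : (U : Set ↥Y) = {P}ᶜ) :
    genericPoint Y ∈ U := by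
  by_contra hη
  have h1 : genericPoint Y = P := by
    have : genericPoint Y ∈ (U : Set Y)ᶜ := hη
    rw [hU, compl_compl] at this
    exact this
  have hcl : IsClosed ({P} : Set Y) := by
    have := U.isOpen.isClosed_compl
    rwa [hU, compl_compl] at this
  have h2 : (Set.univ : Set Y) = {P} := by
    rw [← (genericPoint_spec Y).def, h1, hcl.closure_eq]
  haveI : Subsingleton Y := by
    constructor
    intro a b
    have ha : a ∈ ({P} : Set Y) := h2 ▸ Set.mem_univ a
    have hb : b ∈ ({P} : Set Y) := h2 ▸ Set.mem_univ b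
    rw [Set.mem_singleton_iff] at ha hb
    rw [ha, hb]
  haveI : Subsingleton (TopologicalSpace.IrreducibleCloseds Y) := by
    constructor
    intro a b
    apply TopologicalSpace.IrreducibleCloseds.ext
    obtain ⟨x, hx⟩ := a.isIrreducible.nonempty
    obtain ⟨y, hy⟩ := b.isIrreducible.nonempty
    ext z
    constructor
    · intro _; rw [Subsingleton.elim z y]; exact hy
    · intro _; rw [Subsingleton.elim z x]; exact hx
  have h3 : topologicalKrullDim Y ≤ 0 := Order.krullDim_nonpos_of_subsingleton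
  rw [hY] at h3
  exact absurd h3 (by decide)

end Groth.Agent.Lib.Helper24.Gen2516
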